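import Mathlib.RingTheory.Etale.StandardEtale
import Mathlib.RingTheory.TensorProduct.Maps
import Mathlib.RingTheory.Localization.Integral
import Mathlib.RingTheory.LocalRing.ResidueField.Ideal
import Mathlib.RingTheory.Etale.Basic
import Mathlib.Algebra.Polynomial.EraseLead
import Mathlib.Algebra.Polynomial.Lifts
import Mathlib.FieldTheory.Minpoly.Basic

/-!
# Étale algebras with prescribed points in separable residue extensions
-/

set_option autoImplicit false

universe u

open Polynomial TensorProduct

namespace Groth.L05.QuasiSec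

variable {R K : Type u} [CommRing R] [Field K] [Algebra R K]

/-- An element of `K` is a simple root of a polynomial over `R` with good leading coefficient. -/
theorem exists_simple_root_poly [CharZero K] (x : K)
    (hx : ∃ P : R[X], P.map (algebraMap R K) ≠ 0 ∧ aeval x P = 0) :
    ∃ P : R[X], algebraMap R K P.leadingCoeff ≠ 0 ∧ aeval x P = 0 ∧ aeval x (derivative P) ≠ 0 := by
  classical
  have hex : ∃ d, ∃ P : R[X], P.natDegree = d ∧ P.map (algebraMap R K) ≠ 0 ∧ aeval x P = 0 := by
    obtain ⟨P, h⟩ := hx; exact ⟨_, P, rfl, h⟩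
  obtain ⟨P, hdeg, hne, h0⟩ := Nat.find_spec hex
  have hmin : ∀ Q : R[X], Q.natDegree < P.natDegree → Q.map (algebraMap R K) ≠ 0 → aeval x Q ≠ 0 := by
    intro Q hQ h1 h2
    exact Nat.find_min hex (hdeg ▸ hQ) ⟨Q, rfl, h1, h2⟩
  have hpos : 0 < P.natDegree := by
    by_contra h
    rw [not_lt, Nat.le_zero] at h
    rw [eq_C_of_natDegree_eq_zero h, aeval_C] at h0
    exact hne (by rw [eq_C_of_natDegree_eq_zero h, Polynomial.map_C, h0, C_0])
  have hlc : algebraMap R K P.leadingCoeff ≠ 0 := by
    intro hl
    have hmap : P.eraseLead.map (algebraMap R K) = P.map (algebraMap R K) := by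
      have h := congrArg (Polynomial.map (algebraMap R K)) (eraseLead_add_C_mul_X_pow P)
      rwa [Polynomial.map_add, Polynomial.map_mul, Polynomial.map_C, hl, C_0, zero_mul, add_zero] at h
    refine hmin P.eraseLead ?_ (hmap ▸ hne) ?_
    · have := eraseLead_natDegree_le P; omega
    · rw [← aeval_map_algebraMap K, hmap, aeval_map_algebraMap]; exact h0
  refine ⟨P, hlc, h0, hmin _ (natDegree_derivative_lt hpos.ne') ?_⟩
  intro h
  have := congrArg (fun q => coeff q (P.natDegree - 1)) h
  simp only [coeff_map, coeff_derivative, coeff_zero] at this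
  rw [Nat.sub_add_cancel hpos, coeff_natDegree, map_mul, mul_eq_zero] at this
  rcases this with h' | h'
  · exact hlc h'
  · rw [map_add, map_natCast, map_one] at h'
    exact Nat.cast_add_one_ne_zero _ h'

theorem exists_root1 (x : K)
    (hx : ∃ P : R[X], algebraMap R K P.leadingCoeff ≠ 0 ∧ aeval x P = 0 ∧ aeval x (derivative P) ≠ 0) :
    ∃ (E : Type u) (_ : CommRing E) (_ : Algebra R E) (_ : Algebra.Etale R E) (r : E)
      (ψ : E →ₐ[R] K), ψ r = x := by
  obtain ⟨P, hlc, h0, h1⟩ := hx
  let A := Localization.Away P.leadingCoeff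
  let u : A := IsLocalization.Away.invSelf P.leadingCoeff
  let f : A[X] := C u * P.map (algebraMap R A)
  have hu : algebraMap R A P.leadingCoeff * u = 1 := IsLocalization.Away.mul_invSelf _
  have hf : f.Monic := by
    rcases subsingleton_or_nontrivial A with hA | hA
    · exact monic_of_subsingleton _
    refine monic_C_mul_of_mul_leadingCoeff_eq_one ?_
    have : algebraMap R A P.leadingCoeff ≠ 0 := fun h => by simp [h] at hu
    rw [leadingCoeff_map_of_leadingCoeff_ne_zero _ this, mul_comm, hu]
  let S : StandardEtalePair A := ⟨f, hf, derivative f, 1, 0, 1, by simp⟩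
  haveI : Algebra.Etale R A := Algebra.Etale.of_isLocalizationAway P.leadingCoeff
  let c : A →ₐ[R] K := IsLocalization.Away.liftAlgHom P.leadingCoeff (f := Algebra.ofId R K)
    (isUnit_iff_ne_zero.2 hlc)
  letI : Algebra A K := c.toRingHom.toAlgebra
  haveI : IsScalarTower R A K := IsScalarTower.of_algebraMap_eq fun r => (c.commutes r).symm
  have hu' : algebraMap A K u ≠ 0 := fun h => by
    have := congrArg (algebraMap A K) hu
    rw [map_mul, h, mul_zero, map_one] at this
    exact zero_ne_one this
  have hmap : S.HasMap x := by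
    refine ⟨?_, ?_⟩
    · simp [S, f, aeval_map_algebraMap, h0]
    · simp [S, f, derivative_map, aeval_map_algebraMap, hu', h1]
  letI : Algebra R S.Ring := ((algebraMap A S.Ring).comp (algebraMap R A)).toAlgebra
  haveI : IsScalarTower R A S.Ring := IsScalarTower.of_algebraMap_eq fun _ => rfl
  haveI : Algebra.Etale R S.Ring := Algebra.Etale.comp R A S.Ring
  exact ⟨S.Ring, inferInstance, inferInstance, this, S.X, (S.lift x hmap).restrictScalars R, by simp⟩

theorem exists_roots [CharZero K] (halg : ∀ x : K, ∃ P : R[X], P.map (algebraMap R K) ≠ 0 ∧ aeval x P = 0)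
    {d : ℕ} (x : Fin d → K) :
    ∃ (E : Type u) (_ : CommRing E) (_ : Algebra R E) (_ : Algebra.Etale R E) (r : Fin d → E)
      (ψ : E →ₐ[R] K), ∀ i, ψ (r i) = x i := by
  induction d with
  | zero => exact ⟨R, inferInstance, inferInstance, inferInstance, Fin.elim0, Algebra.ofId R K,
      fun i => i.elim0⟩
  | succ d ih =>
    obtain ⟨E, _, _, _, r, ψ, hψ⟩ := ih (fun i => x i.castSucc)
    obtain ⟨E1, _, _, _, r1, ψ1, hψ1⟩ := exists_root1 (x (Fin.last d)) (exists_simple_root_poly _ (halg _))
    have : Algebra.Etale R (E ⊗[R] E1) := Algebra.Etale.comp R E _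
    refine ⟨E ⊗[R] E1, inferInstance, inferInstance, inferInstance,
      Fin.snoc (fun i => r i ⊗ₜ 1) (1 ⊗ₜ r1), Algebra.TensorProduct.productMap ψ ψ1,
      Fin.lastCases ?_ fun i => ?_⟩
    · simp [hψ1]
    · simp [hψ]

/-- Finite extensions of a residue field of `R` are algebraic over `R`. -/
theorem exists_poly_of_finite (p : Ideal R) [p.IsPrime] [Algebra p.ResidueField K]
    [IsScalarTower R p.ResidueField K] [Module.Finite p.ResidueField K] (x : K) :
    ∃ P : R[X], P.map (algebraMap R K) ≠ 0 ∧ aeval x P = 0 := by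
  letI : Algebra (R ⧸ p) K :=
    ((algebraMap p.ResidueField K).comp (algebraMap (R ⧸ p) p.ResidueField)).toAlgebra
  haveI : IsScalarTower (R ⧸ p) p.ResidueField K := IsScalarTower.of_algebraMap_eq fun _ => rfl
  haveI : IsScalarTower R (R ⧸ p) K := IsScalarTower.of_algebraMap_eq fun r => by
    rw [RingHom.algebraMap_toAlgebra, RingHom.comp_apply, ← IsScalarTower.algebraMap_apply R (R ⧸ p),
      ← IsScalarTower.algebraMap_apply R p.ResidueField]
  obtain ⟨q, hq, hq0⟩ := (IsFractionRing.isAlgebraic_iff (R ⧸ p) p.ResidueField K).mpr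
    (IsIntegral.of_finite p.ResidueField x).isAlgebraic
  obtain ⟨P, rfl⟩ := Polynomial.map_surjective (algebraMap R (R ⧸ p)) Ideal.Quotient.mk_surjective q
  refine ⟨P, ?_, by rwa [aeval_map_algebraMap] at hq0⟩
  intro h
  rw [IsScalarTower.algebraMap_eq R (R ⧸ p) K, ← Polynomial.map_map,
    Polynomial.map_eq_zero_iff (f := algebraMap (R ⧸ p) K)] at h
  · exact hq h
  · exact (algebraMap p.ResidueField K).injective.comp (IsFractionRing.injective (R ⧸ p) p.ResidueField)

end Groth.L05.QuasiSec
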