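import Groth.Agent.L05.QuasiSec.Alg
import Groth.Agent.L26.Neron.Basic
import Groth.Agent.L26.Neron.SchDense
import Groth.Agent.L19.SchDense
import Mathlib.AlgebraicGeometry.Morphisms.Smooth
import Mathlib.AlgebraicGeometry.Morphisms.Etale
import Mathlib.AlgebraicGeometry.Morphisms.Immersion
import Mathlib.AlgebraicGeometry.AffineScheme
import Mathlib.AlgebraicGeometry.PullbackCarrier
import Mathlib.RingTheory.RingHom.StandardSmooth
import Mathlib.RingTheory.LocalRing.ResidueField.Fiber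
import Mathlib.RingTheory.Jacobson.Ring
import Mathlib.RingTheory.Spectrum.Prime.Jacobson

/-!
# Étale quasi-sections of smooth morphisms in characteristic zero
-/

set_option autoImplicit false

universe u

open CategoryTheory CategoryTheory.Limits AlgebraicGeometry TensorProduct Topology

noncomputable section

namespace Groth.L05.QuasiSec

variable {Z S : Scheme.{u}} (f : Z ⟶ S)

theorem exists_etale_lift {U : S.Opens} (hU : IsAffineOpen U) {V : Z.Opens} (hV : IsAffineOpen V)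
    (e : V ≤ f ⁻¹ᵁ U) (hs : (f.appLE U V e).hom.IsStandardSmooth) (K : Type u) [Field K] [CharZero K]
    (ψ : Γ(Z, V) →+* K)
    (halg : ∀ x : K, ∃ P : Polynomial Γ(S, U), P.map (ψ.comp (f.appLE U V e).hom) ≠ 0 ∧
      P.eval₂ (ψ.comp (f.appLE U V e).hom) x = 0) :
    ∃ (S' : Scheme.{u}) (g : S' ⟶ S) (s' : S') (w : S' ⟶ Z),
      Etale g ∧ w ≫ f = g ∧ w s' = hV.fromSpec (PrimeSpectrum.comap ψ ⊥) := by
  obtain ⟨n, φ, hφC, hφ⟩ := hs.exists_etale_mvPolynomial
  letI : Algebra Γ(S, U) K := (ψ.comp (f.appLE U V e).hom).toAlgebra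
  obtain ⟨E, _, _, _, r, χ, hχ⟩ := exists_roots (R := Γ(S, U)) (K := K) halg
    (fun i => ψ (φ (MvPolynomial.X i)))
  let ρ : MvPolynomial (Fin n) Γ(S, U) →+* E :=
    (MvPolynomial.aeval r : MvPolynomial (Fin n) Γ(S, U) →ₐ[Γ(S, U)] E).toRingHom
  have hcomp : ψ.comp φ = χ.toRingHom.comp ρ := by
    refine MvPolynomial.ringHom_ext (fun c => ?_) fun i => ?_
    · have h1 : φ (MvPolynomial.C c) = (f.appLE U V e).hom c := RingHom.congr_fun hφC c
      simp [ρ, h1]
      rfl
    · simp [ρ, hχ]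
  let π : Spec Γ(Z, V) ⟶ Spec (CommRingCat.of (MvPolynomial (Fin n) Γ(S, U))) :=
    Spec.map (CommRingCat.ofHom φ)
  let j : Spec (CommRingCat.of E) ⟶ Spec (CommRingCat.of (MvPolynomial (Fin n) Γ(S, U))) :=
    Spec.map (CommRingCat.ofHom ρ)
  let α : CommRingCat.of Γ(S, U) ⟶ CommRingCat.of E := CommRingCat.ofHom (algebraMap Γ(S, U) E)
  let c : CommRingCat.of Γ(S, U) ⟶ CommRingCat.of (MvPolynomial (Fin n) Γ(S, U)) :=
    CommRingCat.ofHom MvPolynomial.C
  have hπ : Etale π := HasRingHomProperty.Spec_iff.2 hφ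
  have hα : Etale (Spec.map α) := HasRingHomProperty.Spec_iff.2 (RingHom.etale_algebraMap.2 ‹_›)
  have hφ' : f.appLE U V e = c ≫ CommRingCat.ofHom φ := CommRingCat.hom_ext hφC.symm
  have hρ : c ≫ CommRingCat.ofHom ρ = α :=
    CommRingCat.hom_ext (MvPolynomial.aeval r).comp_algebraMap
  let b : Spec Γ(Z, V) := PrimeSpectrum.comap ψ ⊥
  let q : Spec (CommRingCat.of E) := PrimeSpectrum.comap χ.toRingHom ⊥
  have hbq : π b = j q := by
    change PrimeSpectrum.comap φ (PrimeSpectrum.comap ψ ⊥) =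
      PrimeSpectrum.comap ρ (PrimeSpectrum.comap χ.toRingHom ⊥)
    rw [← PrimeSpectrum.comap_comp_apply, ← PrimeSpectrum.comap_comp_apply, hcomp]
  obtain ⟨t, ht1, -⟩ := Scheme.Pullback.exists_preimage_pullback (f := π) (g := j) b q hbq
  refine ⟨pullback π j, pullback.snd π j ≫ Spec.map α ≫ hU.fromSpec, t,
    pullback.fst π j ≫ hV.fromSpec, ?_, ?_, ?_⟩
  · have : Etale (pullback.snd π j) := inferInstance
    infer_instance
  · rw [Category.assoc, ← hU.SpecMap_appLE_fromSpec f hV e, hφ', Spec.map_comp, ← hρ, Spec.map_comp,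
      Category.assoc, Category.assoc, pullback.condition_assoc]
  · rw [Scheme.Hom.comp_apply, ht1]

theorem mem_of_forall_etale [Smooth f] (hS : ∀ (U : S.Opens) (n : ℕ), n ≠ 0 → IsUnit (n : Γ(S, U)))
    (T : Set Z) (hT : IsLocallyClosed T)
    (hmem : ∀ {S' : Scheme.{u}} (g : S' ⟶ S) (w : S' ⟶ Z), Etale g → w ≫ f = g → ∀ t, w t ∈ T)
    (z : Z) : z ∈ T := by
  obtain ⟨U, hU, V, hV, hz, e, hs⟩ := Smooth.exists_isStandardSmooth f z
  obtain ⟨a, rfl⟩ : ∃ a, hV.fromSpec a = z := by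
    have : z ∈ Set.range hV.fromSpec := by rw [hV.range_fromSpec]; exact hz
    exact this
  letI := (f.appLE U V e).hom.toAlgebra
  haveI : Algebra.FiniteType Γ(S, U) Γ(Z, V) :=
    RingHom.finiteType_algebraMap.mp (f.finiteType_appLE hU hV e)
  let p : Ideal Γ(S, U) := a.asIdeal.comap (algebraMap Γ(S, U) Γ(Z, V))
  let B := p.Fiber Γ(Z, V)
  let ι : Γ(Z, V) →+* B := (Algebra.TensorProduct.includeRight (R := Γ(S, U))).toRingHom
  haveI : IsJacobsonRing B := isJacobsonRing_of_finiteType (A := p.ResidueField)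
  let hom : PrimeSpectrum B → Z := fun b => hV.fromSpec (PrimeSpectrum.comap ι b)
  obtain ⟨b, hb⟩ : ∃ b, hom b = hV.fromSpec a := by
    refine ⟨PrimeSpectrum.preimageEquivFiber Γ(S, U) Γ(Z, V) ⟨p, inferInstance⟩ ⟨a, rfl⟩, ?_⟩
    exact congrArg hV.fromSpec.base (congrArg Subtype.val
      ((PrimeSpectrum.preimageEquivFiber Γ(S, U) Γ(Z, V) ⟨p, inferInstance⟩).symm_apply_apply ⟨a, rfl⟩))
  have hcont : Continuous hom := hV.fromSpec.continuous.comp (PrimeSpectrum.continuous_comap ι)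
  by_contra hne
  obtain ⟨O, C, hO, hC, hTeq⟩ := hT
  obtain ⟨L, hL, hbL, hLT⟩ : ∃ L : Set (PrimeSpectrum B), IsLocallyClosed L ∧ b ∈ L ∧
      ∀ x ∈ L, hom x ∉ T := by
    by_cases hbO : hom b ∈ O
    · refine ⟨hom ⁻¹' Cᶜ, (hC.isOpen_compl.preimage hcont).isLocallyClosed, ?_, fun x hx h => ?_⟩
      · intro h
        exact hne (hTeq ▸ ⟨hb ▸ hbO, hb ▸ h⟩)
      · rw [hTeq] at h
        exact hx h.2
    · refine ⟨hom ⁻¹' Oᶜ, (hO.isClosed_compl.preimage hcont).isLocallyClosed, hbO, fun x hx h => ?_⟩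
      rw [hTeq] at h
      exact hx h.1
  haveI : JacobsonSpace (PrimeSpectrum B) := PrimeSpectrum.isJacobsonRing_iff_jacobsonSpace.mp ‹_›
  obtain ⟨m, hmL, hm⟩ := nonempty_inter_closedPoints ⟨b, hbL⟩ hL
  haveI : m.asIdeal.IsMaximal := (PrimeSpectrum.isClosed_singleton_iff_isMaximal m).mp hm
  let K := B ⧸ m.asIdeal
  letI : Field K := Ideal.Quotient.field m.asIdeal
  haveI : Algebra.FiniteType p.ResidueField K :=
    Algebra.FiniteType.of_surjective (Ideal.Quotient.mkₐ p.ResidueField m.asIdeal) Ideal.Quotient.mk_surjective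
  haveI : Module.Finite p.ResidueField K := finite_of_finite_type_of_isJacobsonRing _ _
  let ψ : Γ(Z, V) →+* K := (Ideal.Quotient.mk m.asIdeal).comp ι
  have hψ : ψ.comp (f.appLE U V e).hom = algebraMap Γ(S, U) K := by
    rw [show (f.appLE U V e).hom = algebraMap Γ(S, U) Γ(Z, V) from rfl, RingHom.comp_assoc]
    ext r
    change Ideal.Quotient.mk m.asIdeal ((Algebra.TensorProduct.includeRight (R := Γ(S, U)) :
      Γ(Z, V) →ₐ[Γ(S, U)] B) (algebraMap Γ(S, U) Γ(Z, V) r)) = _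
    rw [AlgHom.commutes]
    rfl
  haveI : CharZero K := charZero_of_inj_zero fun n hn => by
    by_contra h
    have := ((hS U n h).map (algebraMap Γ(S, U) K)).ne_zero
    rw [map_natCast] at this
    exact this hn
  obtain ⟨S', g, t, w, hg, hw, ht⟩ := exists_etale_lift f hU hV e hs K ψ (by
    rw [hψ]
    exact fun x => exists_poly_of_finite p x)
  refine hLT m hmL ?_
  have hm' : PrimeSpectrum.comap ψ ⊥ = PrimeSpectrum.comap ι m := by
    rw [PrimeSpectrum.comap_comp_apply]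
    congr 1
    ext1
    exact Ideal.mk_ker
  rw [hm'] at ht
  have h1 := hmem g w hg hw t
  rw [ht] at h1
  exact h1

theorem eq_of_etale_eq [Smooth f] [IsLocallyNoetherian S]
    (hS : ∀ (U : S.Opens) (n : ℕ), n ≠ 0 → IsUnit (n : Γ(S, U)))
    (S₀ : S.Opens) (hS₀ : CInt.IsSchematicallyDense S₀) {N : Scheme.{u}} (q : N ⟶ S)
    (g h : Z ⟶ N) (hg : g ≫ q = f) (hh : h ≫ q = f)
    (h0 : (f ⁻¹ᵁ S₀).ι ≫ g = (f ⁻¹ᵁ S₀).ι ≫ h)
    (het : ∀ {S' : Scheme.{u}} (u : S' ⟶ S) (w : S' ⟶ Z), Etale u → w ≫ f = u → w ≫ g = w ≫ h) :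
    g = h := by
  let m : Z ⟶ pullback q q := pullback.lift g h (hg.trans hh.symm)
  let d := pullback.diagonal q
  let e := pullback.fst m d
  have lift : ∀ {T : Scheme.{u}} (w : T ⟶ Z), w ≫ g = w ≫ h → ∃ l : T ⟶ pullback m d, l ≫ e = w := by
    intro T w hw
    refine ⟨pullback.lift w (w ≫ g) ?_, pullback.lift_fst _ _ _⟩
    apply pullback.hom_ext
    · simp only [Category.assoc, m, d]
      erw [pullback.lift_fst, pullback.diagonal_fst]
      simp
    · simp only [Category.assoc, m, d]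
      erw [pullback.lift_snd, pullback.diagonal_snd]
      simp [hw]
  haveI : IsImmersion e := inferInstance
  have hrange : Set.range e = Set.univ := Set.eq_univ_of_forall fun z =>
    mem_of_forall_etale f hS _ e.isLocallyClosed_range (fun {S'} u w hu hw t => by
      obtain ⟨l, rfl⟩ := lift w (het u w hu hw)
      exact ⟨l t, rfl⟩) z
  haveI : IsClosedImmersion e :=
    IsClosedImmersion.of_isPreimmersion e (by rw [hrange]; exact isClosed_univ)
  obtain ⟨l, hl⟩ := lift _ h0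
  have hker := Groth.Agent.NeronL.ker_eq_bot_of_schDense
    (Groth.Agent.L19.SchDense.isSchematicallyDense_preimage f S₀ hS₀) e l hl
  haveI : IsIso e := IsClosedImmersion.isIso_iff_ker_eq_bot.2 hker
  rw [← cancel_epi e]
  have h1 := congrArg (· ≫ pullback.fst q q) (pullback.condition (f := m) (g := d))
  have h2 := congrArg (· ≫ pullback.snd q q) (pullback.condition (f := m) (g := d))
  simp only [Category.assoc, m, d, pullback.lift_fst, pullback.lift_snd, pullback.diagonal_fst,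
    pullback.diagonal_snd, Category.comp_id] at h1 h2
  exact h1.trans h2.symm

end Groth.L05.QuasiSec
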